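import Groth.Agent.H40.ConstGrp
import Groth.Agent.H51.CoprodFinite
import Groth.Agent.H1.AffineAndDescent
import Groth.Prelude.Def_TwC
import Mathlib.AlgebraicGeometry.Morphisms.FlatDescent
import Mathlib.RingTheory.Finiteness.Descent

/-!
# H1/TwConst/Basic: constant schemes under base change; closed quasi-compact subschemes of twisted
constant schemes are finite.

* `sec h I i`, `sec_isPullback`, `nonempty_constBC` : the base change of the constant scheme `I_U`
  along `h : T ⟶ U` is the constant scheme `I_T`.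
* `twConst_precomp` : "becomes constant over `f`" is stable under precomposition.
* `isFinite_of_closed_const` : a closed subscheme of `I_N` (`N` affine), quasi-compact over `N`,
  is finite over `N`.
* `fin_local`, `fin_descent` : Zariski locality / fpqc descent for "the base change of `g` along `k`
  is finite".
* `main` : the statement of S5266.
-/

set_option autoImplicit false
universe u
open CategoryTheory CategoryTheory.Limits AlgebraicGeometry

namespace Groth.Agent.H1.TwConst

section constBC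
variable {U T : Scheme.{u}} (h : T ⟶ U) (I : Type u)

/-- the `i`-th section of the base-changed constant scheme -/
noncomputable def sec (i : I) : T ⟶ pullback (TwC.const U I).hom h :=
  pullback.lift (h ≫ Sigma.ι (fun _ : I => U) i) (𝟙 T) (by simp)

theorem sec_isPullback (i : I) :
    IsPullback h (sec h I i) (Sigma.ι (fun _ : I => U) i) (pullback.fst (TwC.const U I).hom h) := by
  refine IsPullback.of_bot ?_ ?_ (IsPullback.of_hasPullback (TwC.const U I).hom h)
  · have e1 : sec h I i ≫ pullback.snd (TwC.const U I).hom h = 𝟙 T := pullback.lift_snd _ _ _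
    have e2 : Sigma.ι (fun _ : I => U) i ≫ (TwC.const U I).hom = 𝟙 U := by simp
    rw [e1, e2]
    exact IsPullback.of_vert_isIso ⟨by simp⟩
  · exact (pullback.lift_fst _ _ _).symm

instance (i : I) : IsOpenImmersion (sec h I i) :=
  MorphismProperty.of_isPullback (P := @IsOpenImmersion) (sec_isPullback h I i) inferInstance

theorem fst_sec_apply (i : I) (t : T) :
    (pullback.fst (TwC.const U I).hom h).base ((sec h I i).base t) =
      (Sigma.ι (fun _ : I => U) i).base (h.base t) := by
  have := congrArg (fun φ : T ⟶ (TwC.const U I).left => φ.base t) (sec_isPullback h I i).w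
  exact this.symm

theorem iSup_opensRange_sec : ⨆ i, (sec h I i).opensRange = ⊤ := by
  rw [eq_top_iff]
  intro x _
  obtain ⟨i, u, hu⟩ := (sigmaOpenCover (fun _ : I => U)).exists_eq
    ((pullback.fst (TwC.const U I).hom h).base x)
  obtain ⟨t, -, ht⟩ := Scheme.exists_preimage_of_isPullback (sec_isPullback h I i) u x hu
  exact TopologicalSpace.Opens.mem_iSup.mpr ⟨i, t, ht⟩

theorem disjoint_opensRange_sec :
    Pairwise (Function.onFun Disjoint fun i => (sec h I i).opensRange) := by
  intro i j hij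
  change Disjoint (sec h I i).opensRange (sec h I j).opensRange
  rw [disjoint_iff, eq_bot_iff]
  rintro x ⟨⟨t, ht⟩, ⟨t', ht'⟩⟩
  have e1 : (pullback.fst (TwC.const U I).hom h).base x ∈
      (Sigma.ι (fun _ : I => U) i).opensRange := ⟨h.base t, by rw [← ht]; exact (fst_sec_apply h I i t).symm⟩
  have e2 : (pullback.fst (TwC.const U I).hom h).base x ∈
      (Sigma.ι (fun _ : I => U) j).opensRange := ⟨h.base t', by rw [← ht']; exact (fst_sec_apply h I j t').symm⟩
  exact (disjoint_opensRange_sigmaι (fun _ : I => U) i j hij).le_bot ⟨e1, e2⟩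

/-- The base change of a constant scheme is constant. -/
theorem nonempty_constBC : Nonempty ((Over.pullback h).obj (TwC.const U I) ≅ TwC.const T I) := by
  obtain ⟨hc⟩ := nonempty_isColimit_cofanMk_of (sec h I) (iSup_opensRange_sec h I)
    (disjoint_opensRange_sec h I)
  let e : (∐ fun _ : I => T) ≅ pullback (TwC.const U I).hom h :=
    (coproductIsCoproduct (fun _ : I => T)).coconePointUniqueUpToIso hc
  have he : ∀ i, Sigma.ι (fun _ : I => T) i ≫ e.hom = sec h I i := fun i =>
    (coproductIsCoproduct (fun _ : I => T)).comp_coconePointUniqueUpToIso_hom hc ⟨i⟩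
  refine ⟨(Over.isoMk e ?_).symm⟩
  apply Sigma.hom_ext
  intro i
  change Sigma.ι (fun _ : I => T) i ≫ e.hom ≫ pullback.snd (TwC.const U I).hom h =
    Sigma.ι (fun _ : I => T) i ≫ Sigma.desc (fun _ : I => 𝟙 T)
  rw [← Category.assoc, he, Sigma.ι_desc]
  exact pullback.lift_snd _ _ _

end constBC

/-- "`X` becomes constant over `f`" is stable under precomposition. -/
theorem twConst_precomp {S S' S'' : Scheme.{u}} (X : Over S) (f : S' ⟶ S) (k : S'' ⟶ S')
    (hP : ∃ I : Type u, Nonempty (Red.bc f X ≅ TwC.const S' I)) :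
    ∃ I : Type u, Nonempty (Red.bc (k ≫ f) X ≅ TwC.const S'' I) := by
  obtain ⟨I, ⟨e⟩⟩ := hP
  obtain ⟨e'⟩ := nonempty_constBC k I
  exact ⟨I, ⟨(Over.pullbackComp k f).app X ≪≫ (Over.pullback k).mapIso e ≪≫ e'⟩⟩

open Groth.Agent.H40.ConstGrp in
/-- A closed subscheme of a constant scheme over an affine base which is quasi-compact over the
base is finite over the base. -/
theorem isFinite_of_closed_const {N : Scheme.{u}} [IsAffine N] (I : Type u) {Y : Scheme.{u}}
    (c : Y ⟶ (TwC.const N I).left) [IsClosedImmersion c]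
    [hqc : QuasiCompact (c ≫ (TwC.const N I).hom)] :
    IsFinite (c ≫ (TwC.const N I).hom) := by
  haveI : CompactSpace Y := (HasAffineProperty.iff_of_isAffine (P := @QuasiCompact)).mp hqc
  have hF := finite_setOf_comp (S := N) I c
  haveI : Finite {m | ∃ x : Y, c.base x ∈ comp (S := N) I m} := hF.to_subtype
  let F : Type u := {m | ∃ x : Y, c.base x ∈ comp (S := N) I m}
  haveI : Finite F := hF.to_subtype
  let Yi : F → Y.Opens := fun i => c ⁻¹ᵁ (Sigma.ι (fun _ : I => N) i.1).opensRange
  let a : ∀ i : F, ((Yi i : Y.Opens) : Scheme.{u}) ⟶ Y := fun i => (Yi i).ι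
  have hcov : ⨆ i, (a i).opensRange = ⊤ := by
    rw [eq_top_iff]
    intro y _
    obtain ⟨m, hm⟩ := exists_mem_comp I (c.base y)
    refine TopologicalSpace.Opens.mem_iSup.mpr ⟨⟨m, y, hm⟩, ?_⟩
    change y ∈ (Yi ⟨m, y, hm⟩).ι.opensRange
    rw [Scheme.Opens.opensRange_ι]
    exact hm
  have hdisj : Pairwise (Function.onFun Disjoint fun i => (a i).opensRange) := by
    intro i j hij
    change Disjoint (Yi i).ι.opensRange (Yi j).ι.opensRange
    rw [Scheme.Opens.opensRange_ι, Scheme.Opens.opensRange_ι, disjoint_iff, eq_bot_iff]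
    rintro y ⟨hi, hj⟩
    exact (hij (Subtype.ext (comp_disjoint I _ hi hj))).elim
  obtain ⟨hc⟩ := nonempty_isColimit_cofanMk_of a hcov hdisj
  have hcl : ∀ i : F, IsClosedImmersion (a i ≫ c ≫ (TwC.const N I).hom) := by
    intro i
    have e1 : a i ≫ c = (c ∣_ (Sigma.ι (fun _ : I => N) i.1).opensRange) ≫
        (Sigma.ι (fun _ : I => N) i.1).opensRange.ι :=
      (morphismRestrict_ι c _).symm
    have e2 : (Sigma.ι (fun _ : I => N) i.1).opensRange.ι ≫ (TwC.const N I).hom =
        (Scheme.Hom.isoOpensRange (Sigma.ι (fun _ : I => N) i.1)).inv := by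
      rw [← cancel_epi (Scheme.Hom.isoOpensRange (Sigma.ι (fun _ : I => N) i.1)).hom,
        Iso.hom_inv_id, ← Category.assoc, Scheme.Hom.isoOpensRange_hom_ι]
      simp
    haveI : IsClosedImmersion (c ∣_ (Sigma.ι (fun _ : I => N) i.1).opensRange) :=
      IsZariskiLocalAtTarget.restrict ‹IsClosedImmersion c› _
    rw [← Category.assoc, e1, Category.assoc, e2]
    infer_instance
  haveI : ∀ i : F, IsAffine ((Yi i : Y.Opens) : Scheme.{u}) := fun i => by
    haveI := hcl i
    exact isAffine_of_isAffineHom (a i ≫ c ≫ (TwC.const N I).hom)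
  let e : (∐ fun i : F => ((Yi i : Y.Opens) : Scheme.{u})) ≅ Y :=
    (coproductIsCoproduct _).coconePointUniqueUpToIso hc
  have he : ∀ i, Sigma.ι (fun i : F => ((Yi i : Y.Opens) : Scheme.{u})) i ≫ e.hom = a i :=
    fun i => (coproductIsCoproduct _).comp_coconePointUniqueUpToIso_hom hc ⟨i⟩
  have hfin : IsFinite (e.hom ≫ c ≫ (TwC.const N I).hom) := by
    apply Groth.Agent.H51.CoprodFinite.isFinite_of_sigma
    intro i
    rw [← Category.assoc, he]
    haveI := hcl i
    infer_instance
  exact (MorphismProperty.cancel_left_of_respectsIso @IsFinite e.hom _).mp hfin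

/-- Base change to an affine scheme over which `R` is constant: closed + quasi-compact ⇒ finite. -/
theorem isFinite_bc_of_const {S : Scheme.{u}} (R : Over S) {Z : Scheme.{u}} (z : Z ⟶ R.left)
    [IsClosedImmersion z] [QuasiCompact (z ≫ R.hom)] {N : Scheme.{u}} [IsAffine N] (k : N ⟶ S)
    (I : Type u) (e : Red.bc k R ≅ TwC.const N I) : IsFinite (pullback.snd (z ≫ R.hom) k) := by
  let φ := pullbackRightPullbackFstIso R.hom k z
  have hφ : φ.hom ≫ pullback.snd (z ≫ R.hom) k =
      pullback.snd z (pullback.fst R.hom k) ≫ pullback.snd R.hom k :=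
    pullbackRightPullbackFstIso_hom_snd _ _ _
  haveI : IsIso e.hom.left := (Over.forget N).map_isIso e.hom
  let c : pullback z (pullback.fst R.hom k) ⟶ (TwC.const N I).left :=
    pullback.snd z (pullback.fst R.hom k) ≫ e.hom.left
  have hw : e.hom.left ≫ (TwC.const N I).hom = pullback.snd R.hom k := Over.w e.hom
  have hc : c ≫ (TwC.const N I).hom = φ.hom ≫ pullback.snd (z ≫ R.hom) k := by
    rw [hφ]
    simp only [c, Category.assoc]
    rw [hw]
  haveI : IsClosedImmersion c := inferInstance
  haveI : QuasiCompact (c ≫ (TwC.const N I).hom) := by rw [hc]; infer_instance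
  have := isFinite_of_closed_const I c
  rw [hc] at this
  exact (MorphismProperty.cancel_left_of_respectsIso @IsFinite φ.hom _).mp this

section descent
variable {S Z : Scheme.{u}} (g : Z ⟶ S)

theorem fin_local {N : Scheme.{u}} (k : N ⟶ S) {ι : Type*} (V : ι → N.Opens)
    (hV : ⨆ i, V i = ⊤) (H : ∀ j, IsFinite (pullback.snd g ((V j).ι ≫ k))) :
    IsFinite (pullback.snd g k) := by
  apply IsZariskiLocalAtTarget.of_openCover (P := @IsFinite) (N.openCoverOfIsOpenCover V hV)
  intro j
  change IsFinite (pullback.snd (pullback.snd g k) (V j).ι)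
  rw [← pullbackLeftPullbackSndIso_hom_snd g k (V j).ι]
  haveI := H j
  infer_instance

theorem isFinite_descendsAlong :
    MorphismProperty.DescendsAlong @IsFinite
      (@Surjective ⊓ @Flat ⊓ @QuasiCompact : MorphismProperty Scheme.{u}) :=
  Groth.Agent.H1.descendsAlong_fpqc_of_affineAnd
    (Q := RingHom.Finite) (inferInstance : HasAffineProperty @IsFinite
      (fun X _ f _ ↦ IsAffine X ∧ RingHom.Finite (f.appTop).hom))
    RingHom.finite_respectsIso RingHom.Finite.codescendsAlong_faithfullyFlat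

theorem fin_descent {N N' : Scheme.{u}} (k : N ⟶ S) (p : N' ⟶ N) [Surjective p] [Flat p]
    [QuasiCompact p] (H : IsFinite (pullback.snd g (p ≫ k))) : IsFinite (pullback.snd g k) := by
  haveI := isFinite_descendsAlong.{u}
  refine MorphismProperty.of_pullback_snd_of_descendsAlong (P := @IsFinite)
    (Q := (@Surjective ⊓ @Flat ⊓ @QuasiCompact : MorphismProperty Scheme.{u}))
    (f := pullback.snd g k) (g := p) ⟨⟨inferInstance, inferInstance⟩, inferInstance⟩ ?_
  rw [← pullbackLeftPullbackSndIso_hom_snd g k p]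
  infer_instance

end descent

/-- S5266: a closed subscheme, quasi-compact over the base, of a twisted constant scheme is finite
over the base. -/
theorem main {S : Scheme.{u}} (R : Over S) (hR : TwC.IsTwConst TwC.Topology.fpqc R)
    {Z : Scheme.{u}} (z : Z ⟶ R.left) [IsClosedImmersion z] [QuasiCompact (z ≫ R.hom)] :
    IsFinite (z ≫ R.hom) := by
  obtain ⟨S', f, hfl, hsurj, hqc, hloc⟩ := hR
  suffices H : IsFinite (pullback.snd (z ≫ R.hom) (𝟙 S)) by
    have e : pullback.fst (z ≫ R.hom) (𝟙 S) ≫ (z ≫ R.hom) = pullback.snd (z ≫ R.hom) (𝟙 S) := by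
      rw [pullback.condition, Category.comp_id]
    rw [← e] at H
    exact (MorphismProperty.cancel_left_of_respectsIso @IsFinite
      (pullback.fst (z ≫ R.hom) (𝟙 S)) (z ≫ R.hom)).mp H
  refine fin_local (z ≫ R.hom) (𝟙 S) (fun V : S.affineOpens => (V : S.Opens))
    (iSup_affineOpens_eq_top S) fun V => ?_
  rw [Category.comp_id]
  obtain ⟨W, hWc, hWV⟩ := hqc V.1 V.2
  have hrange : Set.range (W.ι ≫ f).base ⊆ Set.range V.1.ι.base := by
    rintro _ ⟨w, rfl⟩
    have : f.base (W.ι.base w) ∈ (V.1 : Set S) := by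
      rw [← hWV]
      exact ⟨W.ι.base w, w.2, rfl⟩
    simpa using this
  let p : (W : Scheme.{u}) ⟶ (V.1 : Scheme.{u}) := IsOpenImmersion.lift V.1.ι (W.ι ≫ f) hrange
  have hp : p ≫ V.1.ι = W.ι ≫ f := IsOpenImmersion.lift_fac _ _ _
  haveI : Flat p := by
    have : Flat (p ≫ V.1.ι) := by rw [hp]; infer_instance
    exact MorphismProperty.of_postcomp (W := @Flat)
      (W' := MorphismProperty.monomorphisms Scheme.{u}) p V.1.ι
      (inferInstanceAs (Mono V.1.ι)) this
  haveI : Surjective p := ⟨fun v => by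
    have hv : v.1 ∈ f.base '' (W : Set S') := by rw [hWV]; exact v.2
    obtain ⟨w, hwW, hw⟩ := hv
    refine ⟨⟨w, hwW⟩, ?_⟩
    apply Subtype.ext
    have := congrArg (fun φ : (W : Scheme.{u}) ⟶ S => φ.base ⟨w, hwW⟩) hp
    exact this.trans hw⟩
  haveI : QuasiCompact p := by
    haveI : CompactSpace (W : Scheme.{u}) := isCompact_iff_compactSpace.mp hWc
    haveI : IsAffine (V.1 : Scheme.{u}) := V.2
    exact (HasAffineProperty.iff_of_isAffine (P := @QuasiCompact)).mpr inferInstance
  apply fin_descent (z ≫ R.hom) V.1.ι p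
  rw [hp]
  choose Us hUs hP using hloc
  have hN : ∀ w : (W : Scheme.{u}), ∃ N : (W : Scheme.{u}).Opens, IsAffineOpen N ∧ w ∈ N ∧
      N ≤ W.ι ⁻¹ᵁ Us (W.ι.base w) := by
    intro w
    obtain ⟨_, ⟨N, hN, rfl⟩, hwN, hNU⟩ :=
      ((W : Scheme.{u}).isBasis_affineOpens).exists_subset_of_mem_open
        (show w ∈ ((W.ι ⁻¹ᵁ Us (W.ι.base w) : (W : Scheme.{u}).Opens) : Set _) from hUs _)
        (W.ι ⁻¹ᵁ Us (W.ι.base w)).2
    exact ⟨N, hN, hwN, hNU⟩
  choose N hNaff hwN hNU using hN
  refine fin_local (z ≫ R.hom) (W.ι ≫ f) N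
    (eq_top_iff.mpr fun w _ => TopologicalSpace.Opens.mem_iSup.mpr ⟨w, hwN w⟩) fun w => ?_
  haveI : IsAffine ((N w : (W : Scheme.{u}).Opens) : Scheme.{u}) := hNaff w
  have hr : Set.range ((N w).ι ≫ W.ι).base ⊆ Set.range (Us (W.ι.base w)).ι.base := by
    rintro _ ⟨x, rfl⟩
    rw [Scheme.Opens.range_ι]
    exact hNU w x.2
  let j : ((N w : (W : Scheme.{u}).Opens) : Scheme.{u}) ⟶ (Us (W.ι.base w) : Scheme.{u}) :=
    IsOpenImmersion.lift (Us (W.ι.base w)).ι ((N w).ι ≫ W.ι) hr
  have hj : j ≫ (Us (W.ι.base w)).ι = (N w).ι ≫ W.ι := IsOpenImmersion.lift_fac _ _ _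
  have hk : (N w).ι ≫ W.ι ≫ f = j ≫ (Us (W.ι.base w)).ι ≫ f := by
    rw [← Category.assoc, ← hj, Category.assoc]
  obtain ⟨I, ⟨e⟩⟩ := twConst_precomp R ((Us (W.ι.base w)).ι ≫ f) j (hP (W.ι.base w))
  rw [hk]
  exact isFinite_bc_of_const R z _ I e

end Groth.Agent.H1.TwConst
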