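import Groth.Agent.H1.TwConst.Basic
import Mathlib.AlgebraicGeometry.Morphisms.UniversallyOpen
import Mathlib.AlgebraicGeometry.Morphisms.Etale
import Mathlib.AlgebraicGeometry.Morphisms.Proper

/-!
# H1/TwConst/Isotrivial: isotrivial twisted constant schemes are unions of clopen pieces finite over
the base (S5308).
-/

set_option autoImplicit false
universe u
open CategoryTheory CategoryTheory.Limits AlgebraicGeometry

namespace Groth.Agent.H1.TwConst

theorem isTwConst_fpqc_of_finiteEtale {S : Scheme.{u}} (R : Over S)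
    (hR : TwC.IsTwConst TwC.Topology.finiteEtale R) : TwC.IsTwConst TwC.Topology.fpqc R := by
  obtain ⟨S', f, hfin, het, hsurj, hloc⟩ := hR
  refine ⟨S', f, inferInstance, hsurj, ?_, ?_⟩
  · intro V hV
    refine ⟨f ⁻¹ᵁ V, (hV.preimage f).isCompact, ?_⟩
    exact Set.image_preimage_eq _ hsurj.1
  · intro s'
    obtain ⟨U, hU, -, h⟩ := hloc s'
    exact ⟨U, hU, h⟩

theorem isClosed_opensRange_sigmaι (N : Scheme.{u}) (I : Type u) (m : I) :
    IsClosed ((Sigma.ι (fun _ : I => N) m).opensRange : Set ↥(∐ fun _ : I => N)) := by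
  rw [← isOpen_compl_iff]
  have : ((Sigma.ι (fun _ : I => N) m).opensRange : Set ↥(∐ fun _ : I => N))ᶜ =
      ⋃ n ∈ {n : I | n ≠ m}, ((Sigma.ι (fun _ : I => N) n).opensRange : Set ↥(∐ fun _ : I => N)) := by
    ext y
    simp only [Set.mem_compl_iff, Set.mem_iUnion, Set.mem_setOf_eq, exists_prop]
    constructor
    · intro hy
      obtain ⟨n, hn⟩ := Groth.Agent.H40.ConstGrp.exists_mem_comp I y
      exact ⟨n, fun hnm => hy (hnm ▸ hn), hn⟩
    · rintro ⟨n, hnm, hn⟩ hy
      exact hnm (Groth.Agent.H40.ConstGrp.comp_disjoint I y hn hy)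
  rw [this]
  exact isOpen_biUnion fun n _ => (Sigma.ι (fun _ : I => N) n).opensRange.2

theorem pt_congr {X Y : Scheme.{u}} {φ ψ : X ⟶ Y} (h : φ = ψ) (y : X) : φ.base y = ψ.base y := by
  rw [h]

/-- Every point of an isotrivial twisted constant scheme has an open and closed neighbourhood which
is finite over the base. -/
theorem exists_clopen_finite {S : Scheme.{u}} (R : Over S)
    (hR : TwC.IsTwConst TwC.Topology.finiteEtale R) (x : R.left) :
    ∃ U : R.left.Opens, x ∈ U ∧ IsClosed (U : Set ↥R.left) ∧ IsFinite (U.ι ≫ R.hom) := by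
  have hfpqc := isTwConst_fpqc_of_finiteEtale R hR
  obtain ⟨S', f, hfin, het, hsurj, hloc⟩ := hR
  obtain ⟨s', hs'⟩ := hsurj.1 (R.hom.base x)
  obtain ⟨U', hs'U, hU'cl, I, ⟨e⟩⟩ := hloc s'
  haveI : IsClosedImmersion U'.ι :=
    IsClosedImmersion.of_isPreimmersion _ (by rw [Scheme.Opens.range_ι]; exact hU'cl)
  let k : (U' : Scheme.{u}) ⟶ S := U'.ι ≫ f
  haveI : IsFinite k := inferInstance
  haveI : Etale k := inferInstance
  obtain ⟨x'', hx1, hx2⟩ := Scheme.Pullback.exists_preimage_pullback (f := R.hom) (g := k) x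
    ⟨s', hs'U⟩ hs'.symm
  let ρ : pullback R.hom k ⟶ R.left := pullback.fst R.hom k
  have h1 : e.inv.left ≫ e.hom.left = 𝟙 _ := by rw [← Over.comp_left, e.inv_hom_id]; rfl
  have h2 : e.hom.left ≫ e.inv.left = 𝟙 _ := by rw [← Over.comp_left, e.hom_inv_id]; rfl
  obtain ⟨m, hm⟩ := Groth.Agent.H40.ConstGrp.exists_mem_comp I (e.hom.left.base x'')
  let ιm : (U' : Scheme.{u}) ⟶ (TwC.const (U' : Scheme.{u}) I).left :=
    Sigma.ι (fun _ : I => (U' : Scheme.{u})) m
  let C : (pullback R.hom k).Opens := e.hom.left ⁻¹ᵁ ιm.opensRange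
  have hCcl : IsClosed (C : Set ↥(pullback R.hom k)) :=
    (isClosed_opensRange_sigmaι (U' : Scheme.{u}) I m).preimage e.hom.left.continuous
  have hopen : IsOpenMap ρ.base := ρ.isOpenMap
  have hclosed : IsClosedMap ρ.base := ρ.isClosedMap
  let U : R.left.Opens := ⟨ρ.base '' (C : Set ↥(pullback R.hom k)), hopen _ C.2⟩
  have hUcl : IsClosed (U : Set ↥R.left) := hclosed _ hCcl
  haveI : IsClosedImmersion U.ι :=
    IsClosedImmersion.of_isPreimmersion _ (by rw [Scheme.Opens.range_ι]; exact hUcl)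
  -- pointwise identities
  have snd_eq : ∀ y, (pullback.snd R.hom k).base y =
      (TwC.const (U' : Scheme.{u}) I).hom.base (e.hom.left.base y) :=
    fun y => (pt_congr (Over.w e.hom) y).symm
  have desc_ι : ∀ a, (TwC.const (U' : Scheme.{u}) I).hom.base (ιm.base a) = a := fun a =>
    pt_congr (show ιm ≫ (TwC.const (U' : Scheme.{u}) I).hom = 𝟙 _ by simp [ιm]) a
  have cond : ∀ y, R.hom.base (ρ.base y) = k.base ((pullback.snd R.hom k).base y) := fun y =>
    pt_congr pullback.condition y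
  have hi1 : ∀ b, e.hom.left.base (e.inv.left.base b) = b := fun b => pt_congr h1 b
  have hi2 : ∀ y, e.inv.left.base (e.hom.left.base y) = y := fun y => pt_congr h2 y
  haveI : QuasiCompact (U.ι ≫ R.hom) := by
    rw [quasiCompact_iff_forall_isAffineOpen]
    intro V hV
    have hA : IsCompact ((k ⁻¹ᵁ V : (U' : Scheme.{u}).Opens) : Set ↥(U' : Scheme.{u})) :=
      (hV.preimage k).isCompact
    have hD : IsCompact (ρ.base '' (e.inv.left.base '' (ιm.base ''
        ((k ⁻¹ᵁ V : (U' : Scheme.{u}).Opens) : Set ↥(U' : Scheme.{u}))))) :=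
      ((hA.image ιm.continuous).image e.inv.left.continuous).image ρ.continuous
    rw [U.ι.isOpenEmbedding.isInducing.isCompact_iff]
    convert hD using 1
    ext u
    constructor
    · rintro ⟨w, hwV, rfl⟩
      obtain ⟨y, hyC, hy⟩ := w.2
      obtain ⟨a, ha⟩ := hyC
      have hyV : R.hom.base (ρ.base y) ∈ V := by
        rw [hy]
        exact hwV
      have haV : k.base a ∈ V := by
        rw [cond, snd_eq, ← ha, desc_ι] at hyV
        exact hyV
      refine ⟨y, ⟨ιm.base a, ⟨a, haV, rfl⟩, ?_⟩, hy⟩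
      rw [ha, hi2]
    · rintro ⟨y, ⟨b, ⟨a, haV, rfl⟩, rfl⟩, rfl⟩
      have hyC : e.inv.left.base (ιm.base a) ∈ C := by
        change e.hom.left.base (e.inv.left.base (ιm.base a)) ∈ ιm.opensRange
        rw [hi1]
        exact ⟨a, rfl⟩
      refine ⟨⟨ρ.base (e.inv.left.base (ιm.base a)), _, hyC, rfl⟩, ?_, rfl⟩
      change R.hom.base (ρ.base (e.inv.left.base (ιm.base a))) ∈ V
      rw [cond, snd_eq, hi1, desc_ι]
      exact haV
  exact ⟨U, ⟨x'', hm, hx1⟩, hUcl, main R hfpqc U.ι⟩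

end Groth.Agent.H1.TwConst
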