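import Mathlib
import Groth.Agent.H1.TwConst.Isotrivial
import Groth.Agent.H12.NoethTop

/-!
# H1/TwConst/Clopen: an open and closed subscheme of a quasi-isotrivial twisted constant scheme over a
connected locally Noetherian base with one finite fibre is finite over the base (S5267).
-/

set_option autoImplicit false
set_option linter.style.haveILetI false
universe u
open CategoryTheory CategoryTheory.Limits AlgebraicGeometry

namespace Groth.Agent.H1.TwConst

theorem locallyQuasiFinite_of_etale' {X Y : Scheme.{u}} (a : X ⟶ Y) [Etale a] :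
    LocallyQuasiFinite a := by
  rw [HasRingHomProperty.iff_appLE (P := @LocallyQuasiFinite)]
  intro U V e
  have h := HasRingHomProperty.appLE (P := @Etale) a inferInstance U V e
  algebraize [(a.appLE U.1 V.1 e).hom]
  exact RingHom.quasiFinite_algebraMap.mpr inferInstance

/-- Around every point of a locally Noetherian base, an étale-locally constant scheme becomes
constant over an affine connected étale chart. -/
theorem exists_affine_connected_chart {S : Scheme.{u}} [IsLocallyNoetherian S] (P : Over S)
    (hP : TwC.IsTwConst TwC.Topology.etale P) (s : S) :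
    ∃ (C : Scheme.{u}) (f' : C ⟶ S) (c : C), IsAffine C ∧ ConnectedSpace C ∧ Etale f' ∧
      f'.base c = s ∧ ∃ I : Type u, Nonempty (Red.bc f' P ≅ TwC.const C I) := by
  obtain ⟨S', f, het, ⟨c0, hc0⟩, hI⟩ := hP s
  haveI : IsLocallyNoetherian S' := LocallyOfFiniteType.isLocallyNoetherian f
  obtain ⟨_, ⟨A, hA, rfl⟩, hcA, -⟩ := (S'.isBasis_affineOpens).exists_subset_of_mem_open
    (show c0 ∈ (Set.univ : Set S') from trivial) isOpen_univ
  obtain ⟨A, rfl⟩ : ∃ A' : S'.Opens, A' = A := ⟨A, rfl⟩
  haveI : IsAffine (A : Scheme.{u}) := hA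
  haveI : IsNoetherian (A : Scheme.{u}) := {}
  let a0 : (A : Scheme.{u}) := ⟨c0, hcA⟩
  have hopen : IsOpen (connectedComponent a0) :=
    Groth.Agent.H12.isOpen_connectedComponent_of_noetherianSpace a0
  let C0 : (A : Scheme.{u}).Opens := ⟨connectedComponent a0, hopen⟩
  haveI : IsClosedImmersion C0.ι := IsClosedImmersion.of_isPreimmersion _
    (by rw [Scheme.Opens.range_ι]; exact isClosed_connectedComponent)
  haveI : IsAffine (C0 : Scheme.{u}) := isAffine_of_isAffineHom C0.ι
  haveI : ConnectedSpace (C0 : Scheme.{u}) :=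
    isConnected_iff_connectedSpace.mp isConnected_connectedComponent
  refine ⟨C0, (C0.ι ≫ A.ι) ≫ f, ⟨a0, mem_connectedComponent⟩, inferInstance, inferInstance,
    inferInstance, hc0, ?_⟩
  exact twConst_precomp P f (C0.ι ≫ A.ι) hI

/-- Over an affine connected étale chart on which `P` is constant, the finiteness of the fibres of
an open and closed subscheme `Z` is governed by one proposition `Q`, and `Q` implies that the base
change of `Z` to the chart is finite. -/
theorem chart_dichotomy {S : Scheme.{u}} [IsLocallyNoetherian S] (P : Over S) {Z : Scheme.{u}}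
    (z : Z ⟶ P.left) [IsOpenImmersion z] [IsClosedImmersion z] {C : Scheme.{u}} [IsAffine C]
    [ConnectedSpace C] (f' : C ⟶ S) [Etale f'] (I : Type u) (e : Red.bc f' P ≅ TwC.const C I) :
    ∃ Q : Prop, (∀ c' : C, ((z ≫ P.hom).base ⁻¹' {f'.base c'}).Finite ↔ Q) ∧
      (Q → IsFinite (pullback.snd (z ≫ P.hom) f')) := by
  set g := z ≫ P.hom with hg
  let φ := pullbackRightPullbackFstIso P.hom f' z
  have hφ : φ.hom ≫ pullback.snd g f' =
      pullback.snd z (pullback.fst P.hom f') ≫ pullback.snd P.hom f' :=
    pullbackRightPullbackFstIso_hom_snd _ _ _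
  haveI : IsIso e.hom.left := (Over.forget C).map_isIso e.hom
  let cW : pullback g f' ⟶ (TwC.const C I).left :=
    φ.inv ≫ pullback.snd z (pullback.fst P.hom f') ≫ e.hom.left
  have hw : e.hom.left ≫ (TwC.const C I).hom = pullback.snd P.hom f' := Over.w e.hom
  have hcW : cW ≫ (TwC.const C I).hom = pullback.snd g f' := by
    simp only [cW, Category.assoc]
    rw [hw, ← hφ, Iso.inv_hom_id_assoc]
  haveI : IsClosedImmersion cW := inferInstance
  haveI : IsOpenImmersion cW := inferInstance
  let ι : ∀ i : I, C ⟶ (TwC.const C I).left := fun i => Sigma.ι (fun _ : I => C) i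
  have hrange_clopen : IsClopen (Set.range cW.base) :=
    ⟨cW.isClosedEmbedding.isClosed_range, cW.isOpenEmbedding.isOpen_range⟩
  let T : I → Set C := fun i => (ι i).base ⁻¹' Set.range cW.base
  have hT : ∀ i, T i = ∅ ∨ T i = Set.univ := fun i =>
    isClopen_iff.mp (hrange_clopen.preimage (ι i).continuous)
  let IC : Set I := {i | T i = Set.univ}
  have fact1 : ∀ y : ↥(pullback g f'), ∃ i ∈ IC, ∃ c' : C, cW.base y = (ι i).base c' := by
    intro y
    obtain ⟨i, c', hc'⟩ := Groth.Agent.H40.ConstGrp.exists_mem_comp I (cW.base y)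
    refine ⟨i, ?_, c', hc'.symm⟩
    rcases hT i with h | h
    · exact absurd (show c' ∈ T i from ⟨y, hc'.symm⟩) (by rw [h]; exact Set.notMem_empty _)
    · exact h
  have fact2 : ∀ i ∈ IC, ∀ c' : C, ∃ y : ↥(pullback g f'), cW.base y = (ι i).base c' := by
    intro i hi c'
    have : c' ∈ T i := by
      rw [show T i = Set.univ from hi]
      trivial
    exact this
  have desc_ι : ∀ i c', (TwC.const C I).hom.base ((ι i).base c') = c' := fun i c' =>
    pt_congr (show ι i ≫ (TwC.const C I).hom = 𝟙 _ by simp [ι]) c'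
  have snd_eq : ∀ y, (pullback.snd g f').base y = (TwC.const C I).hom.base (cW.base y) :=
    fun y => (pt_congr hcW y).symm
  have fact3 : ∀ y i c', cW.base y = (ι i).base c' → (pullback.snd g f').base y = c' := by
    intro y i c' h
    rw [snd_eq, h, desc_ι]
  have cW_inj : Function.Injective cW.base := cW.isOpenEmbedding.injective
  have ι_ne : ∀ i j c' c'', (ι i).base c' = (ι j).base c'' → i = j := by
    intro i j c' c'' h
    exact Groth.Agent.H40.ConstGrp.comp_disjoint I _ ⟨c', rfl⟩ ⟨c'', h.symm⟩
  have L1 : ∀ c' : C, ((pullback.snd g f').base ⁻¹' {c'}).Finite ↔ IC.Finite := by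
    intro c'
    constructor
    · intro hfin
      choose y hy using fun i (hi : i ∈ IC) => fact2 i hi c'
      haveI : Finite ↥((pullback.snd g f').base ⁻¹' {c'}) := hfin.to_subtype
      have hinj : Function.Injective (fun i : IC =>
          (⟨y i.1 i.2, fact3 _ i.1 c' (hy i.1 i.2)⟩ : ↥((pullback.snd g f').base ⁻¹' {c'}))) := by
        intro i j hij
        have h1 : y i.1 i.2 = y j.1 j.2 := congrArg Subtype.val hij
        have h2 : (ι i.1).base c' = (ι j.1).base c' := by
          rw [← hy i.1 i.2, ← hy j.1 j.2, h1]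
        exact Subtype.ext (ι_ne _ _ _ _ h2)
      haveI := Finite.of_injective _ hinj
      exact Set.toFinite IC
    · intro hIC
      refine (hIC.biUnion (t := fun i => {y | cW.base y = (ι i).base c'}) fun i _ => ?_).subset ?_
      · exact Set.Subsingleton.finite (fun y hy y' hy' => cW_inj (hy.trans hy'.symm))
      · intro y hy
        obtain ⟨i, hi, c'', h⟩ := fact1 y
        have hcc : c'' = c' := (fact3 y i c'' h).symm.trans hy
        exact Set.mem_biUnion hi (hcc ▸ h)
  haveI : QuasiCompact f' := inferInstance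
  haveI : LocallyQuasiFinite (pullback.fst g f') := by
    haveI := locallyQuasiFinite_of_etale' f'
    infer_instance
  haveI : QuasiCompact (pullback.fst g f') := inferInstance
  have L2 : ∀ c' : C, (g.base ⁻¹' {f'.base c'}).Finite ↔
      ((pullback.snd g f').base ⁻¹' {c'}).Finite := by
    intro c'
    constructor
    · intro hfin
      refine (hfin.biUnion (t := fun z0 => (pullback.fst g f').base ⁻¹' {z0}) fun z0 _ =>
        (pullback.fst g f').finite_preimage_singleton z0).subset ?_
      intro y hy
      refine Set.mem_biUnion (show (pullback.fst g f').base y ∈ g.base ⁻¹' {f'.base c'} from ?_) rfl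
      have h1 := pt_congr (pullback.condition (f := g) (g := f')) y
      change g.base ((pullback.fst g f').base y) = f'.base c'
      exact h1.trans (congrArg f'.base hy)
    · intro hfin
      refine (hfin.image (pullback.fst g f').base).subset ?_
      intro z0 hz0
      obtain ⟨y, hy1, hy2⟩ := Scheme.Pullback.exists_preimage_pullback (f := g) (g := f') z0 c' hz0
      exact ⟨y, hy2, hy1⟩
  refine ⟨IC.Finite, fun c' => (L2 c').trans (L1 c'), ?_⟩
  intro hIC
  have hrange : Set.range cW.base = ⋃ i ∈ IC, Set.range (ι i).base := by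
    ext w
    simp only [Set.mem_range, Set.mem_iUnion, exists_prop]
    constructor
    · rintro ⟨y, rfl⟩
      obtain ⟨i, hi, c', h⟩ := fact1 y
      exact ⟨i, hi, c', h.symm⟩
    · rintro ⟨i, hi, c', rfl⟩
      exact fact2 i hi c'
  haveI : CompactSpace ↥(pullback g f') := by
    rw [← isCompact_univ_iff, cW.isOpenEmbedding.isInducing.isCompact_iff, Set.image_univ, hrange]
    exact hIC.isCompact_biUnion fun i _ => isCompact_range (ι i).continuous
  haveI : QuasiCompact (cW ≫ (TwC.const C I).hom) := by
    rw [hcW]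
    exact (HasAffineProperty.iff_of_isAffine (P := @QuasiCompact)).mpr inferInstance
  have := isFinite_of_closed_const I cW
  rwa [hcW] at this

/-- S5267. -/
theorem main_etale_clopen {S : Scheme.{u}} [IsLocallyNoetherian S] [ConnectedSpace S]
    (P : Over S) (hP : TwC.IsTwConst TwC.Topology.etale P)
    {Z : Scheme.{u}} (z : Z ⟶ P.left) [IsOpenImmersion z] [IsClosedImmersion z]
    (hs : ∃ s : S, Set.Finite ((z ≫ P.hom).base ⁻¹' {s})) :
    IsFinite (z ≫ P.hom) := by
  set g := z ≫ P.hom with hg
  choose C f' c hCaff hCconn hf'et hc hI using exists_affine_connected_chart P hP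
  choose I he using hI
  have hdich : ∀ s, ∃ Q : Prop, (∀ c' : C s, (g.base ⁻¹' {(f' s).base c'}).Finite ↔ Q) ∧
      (Q → IsFinite (pullback.snd g (f' s))) := fun s => by
    haveI := hCaff s
    haveI := hCconn s
    haveI := hf'et s
    obtain ⟨e⟩ := he s
    exact chart_dichotomy P z (f' s) (I s) e
  choose Q hQ1 hQ2 using hdich
  let E : Set S := {s | (g.base ⁻¹' {s}).Finite}
  have hV : ∀ s, IsOpen (Set.range (f' s).base) := fun s => by
    haveI := hf'et s
    exact (f' s).isOpenMap.isOpen_range
  have hEV : ∀ s, ∀ s' ∈ Set.range (f' s).base, (s' ∈ E ↔ Q s) := by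
    rintro s _ ⟨c', rfl⟩
    exact hQ1 s c'
  have hEopen : IsOpen E := by
    rw [isOpen_iff_forall_mem_open]
    intro s hsE
    refine ⟨Set.range (f' s).base, ?_, hV s, ⟨c s, hc s⟩⟩
    intro s' hs'
    have hQ : Q s := (hEV s s ⟨c s, hc s⟩).mp hsE
    exact (hEV s s' hs').mpr hQ
  have hEcopen : IsOpen Eᶜ := by
    rw [isOpen_iff_forall_mem_open]
    intro s hsE
    refine ⟨Set.range (f' s).base, ?_, hV s, ⟨c s, hc s⟩⟩
    intro s' hs' hs'E
    have hQ : Q s := (hEV s s' hs').mp hs'E
    exact hsE ((hEV s s ⟨c s, hc s⟩).mpr hQ)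
  have hEuniv : E = Set.univ := IsClopen.eq_univ ⟨isOpen_compl_iff.mp hEcopen, hEopen⟩ hs
  have hQall : ∀ s, Q s := fun s =>
    (hEV s s ⟨c s, hc s⟩).mp (hEuniv ▸ Set.mem_univ s)
  suffices H : IsFinite (pullback.snd g (𝟙 S)) by
    have e : pullback.fst g (𝟙 S) ≫ g = pullback.snd g (𝟙 S) := by
      rw [pullback.condition, Category.comp_id]
    rw [← e] at H
    exact (MorphismProperty.cancel_left_of_respectsIso @IsFinite (pullback.fst g (𝟙 S)) g).mp H
  let V : S → S.Opens := fun s => ⟨Set.range (f' s).base, hV s⟩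
  refine fin_local g (𝟙 S) V
    (eq_top_iff.mpr fun s _ => TopologicalSpace.Opens.mem_iSup.mpr ⟨s, c s, hc s⟩) fun s => ?_
  rw [Category.comp_id]
  haveI := hCaff s
  haveI := hf'et s
  have hr : Set.range (f' s).base ⊆ Set.range (V s).ι.base := by
    rw [Scheme.Opens.range_ι]
    exact subset_rfl
  let p : C s ⟶ (V s : Scheme.{u}) := IsOpenImmersion.lift (V s).ι (f' s) hr
  have hp : p ≫ (V s).ι = f' s := IsOpenImmersion.lift_fac _ _ _
  haveI : Flat p := by
    have : Flat (p ≫ (V s).ι) := by rw [hp]; infer_instance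
    exact MorphismProperty.of_postcomp (W := @Flat)
      (W' := MorphismProperty.monomorphisms Scheme.{u}) p (V s).ι
      (inferInstanceAs (Mono (V s).ι)) this
  haveI : Surjective p := ⟨fun v => by
    obtain ⟨c', hc'⟩ := v.2
    refine ⟨c', ?_⟩
    apply Subtype.ext
    exact (pt_congr hp c').trans hc'⟩
  haveI : QuasiCompact p := inferInstance
  apply fin_descent g (V s).ι p
  rw [hp]
  exact hQ2 s (hQall s)

end Groth.Agent.H1.TwConst
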