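import Mathlib
import Groth.Agent.H1.TwConst.Clopen
import Groth.Agent.S0081
import Groth.Prelude.Def_ActBC

/-!
# H1/TwConst/EtaleLocal: étale-local descent of morphism properties, applied to quasi-isotrivial
twisted constant schemes.

* `P_local`, `P_descent`, `etale_local` : a property `P` of morphisms which is Zariski-local on the
  target, stable under base change and descends along fpqc morphisms can be checked étale-locally
  on the target (pointwise étale charts, as in `TwC.Locally _ .etale`).
* `etale_const`, `isSeparated_const` : the constant scheme `I_T ⟶ T` is étale and separated.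
* `P_of_isTwConst` : such a `P` holding for all constant schemes holds for quasi-isotrivial twisted
  constant schemes.
* `isTwConst_etale_bc` : quasi-isotrivial twisted constant schemes are stable under base change.
* `specializingMap_of_isTwConst`, `existence_of_isTwConst` : their structure morphism is
  (universally) specializing, hence satisfies the existence part of the valuative criterion.
-/

set_option autoImplicit false
universe u
open CategoryTheory CategoryTheory.Limits AlgebraicGeometry

namespace Groth.Agent.H1.TwConst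

section generic
variable (P : MorphismProperty Scheme.{u})

theorem P_local [IsZariskiLocalAtTarget P] {S Z : Scheme.{u}} (g : Z ⟶ S) {N : Scheme.{u}}
    (k : N ⟶ S) {ι : Type*} (V : ι → N.Opens) (hV : ⨆ i, V i = ⊤)
    (H : ∀ j, P (pullback.snd g ((V j).ι ≫ k))) : P (pullback.snd g k) := by
  apply IsZariskiLocalAtTarget.of_openCover (P := P) (N.openCoverOfIsOpenCover V hV)
  intro j
  change P (pullback.snd (pullback.snd g k) (V j).ι)
  rw [← pullbackLeftPullbackSndIso_hom_snd g k (V j).ι]
  exact (P.cancel_left_of_respectsIso _ _).mpr (H j)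

theorem P_descent [P.RespectsIso]
    [P.DescendsAlong (@Surjective ⊓ @Flat ⊓ @QuasiCompact : MorphismProperty Scheme.{u})]
    {S Z : Scheme.{u}} (g : Z ⟶ S) {N N' : Scheme.{u}} (k : N ⟶ S) (p : N' ⟶ N)
    [Surjective p] [Flat p] [QuasiCompact p] (H : P (pullback.snd g (p ≫ k))) :
    P (pullback.snd g k) := by
  refine MorphismProperty.of_pullback_snd_of_descendsAlong (P := P)
    (Q := (@Surjective ⊓ @Flat ⊓ @QuasiCompact : MorphismProperty Scheme.{u}))
    (f := pullback.snd g k) (g := p) ⟨⟨inferInstance, inferInstance⟩, inferInstance⟩ ?_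
  rw [← pullbackLeftPullbackSndIso_hom_snd g k p]
  exact (P.cancel_left_of_respectsIso _ _).mpr H

/-- A property which is Zariski-local on the target, stable under base change and descends along
fpqc morphisms can be checked on pointwise étale charts of the target. -/
theorem etale_local [IsZariskiLocalAtTarget P] [P.IsStableUnderBaseChange]
    [P.DescendsAlong (@Surjective ⊓ @Flat ⊓ @QuasiCompact : MorphismProperty Scheme.{u})]
    {S Z : Scheme.{u}} (g : Z ⟶ S)
    (H : ∀ s : S, ∃ (S' : Scheme.{u}) (f : S' ⟶ S), Etale f ∧ s ∈ Set.range f.base ∧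
      P (pullback.snd g f)) : P g := by
  suffices H' : P (pullback.snd g (𝟙 S)) by
    have e : pullback.fst g (𝟙 S) ≫ g = pullback.snd g (𝟙 S) := by
      rw [pullback.condition, Category.comp_id]
    rw [← e] at H'
    exact (P.cancel_left_of_respectsIso (pullback.fst g (𝟙 S)) g).mp H'
  have key : ∀ s : S, ∃ V : S.Opens, s ∈ V ∧ P (pullback.snd g (V.ι ≫ 𝟙 S)) := by
    intro s
    obtain ⟨S', f, hf, ⟨c, hc⟩, hP⟩ := H s
    haveI := hf
    obtain ⟨_, ⟨V₀, hV₀, rfl⟩, hsV₀, -⟩ :=
      S.isBasis_affineOpens.exists_subset_of_mem_open (Set.mem_univ s) isOpen_univ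
    obtain ⟨V₀, rfl⟩ : ∃ V₀' : S.Opens, V₀' = V₀ := ⟨V₀, rfl⟩
    have hcV : c ∈ ((f ⁻¹ᵁ V₀ : S'.Opens) : Set S') := by
      change f.base c ∈ (V₀ : Set S)
      rw [hc]
      exact hsV₀
    obtain ⟨_, ⟨C, hC, rfl⟩, hcC, hCV⟩ :=
      S'.isBasis_affineOpens.exists_subset_of_mem_open hcV (f ⁻¹ᵁ V₀).2
    obtain ⟨C, rfl⟩ : ∃ C' : S'.Opens, C' = C := ⟨C, rfl⟩
    haveI : Etale (C.ι ≫ f) := inferInstance
    have hkopen : IsOpenMap (C.ι ≫ f).base := (C.ι ≫ f).isOpenMap
    let V : S.Opens := ⟨Set.range (C.ι ≫ f).base, hkopen.isOpen_range⟩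
    have hsV : s ∈ V := ⟨⟨c, hcC⟩, hc⟩
    have hVV₀ : V ≤ V₀ := by
      rintro _ ⟨a, rfl⟩
      exact hCV a.2
    have hrange : Set.range (C.ι ≫ f).base ⊆ Set.range V.ι.base := by
      rw [Scheme.Opens.range_ι]
      exact subset_rfl
    let p : (C : Scheme.{u}) ⟶ (V : Scheme.{u}) := IsOpenImmersion.lift V.ι (C.ι ≫ f) hrange
    have hp : p ≫ V.ι = C.ι ≫ f := IsOpenImmersion.lift_fac _ _ _
    haveI : Flat p := by
      have : Flat (p ≫ V.ι) := by rw [hp]; infer_instance
      exact MorphismProperty.of_postcomp (W := @Flat)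
        (W' := MorphismProperty.monomorphisms Scheme.{u}) p V.ι
        (inferInstanceAs (Mono V.ι)) this
    haveI : Surjective p := ⟨fun v => by
      obtain ⟨a, ha⟩ := v.2
      refine ⟨a, Subtype.ext ?_⟩
      have := congrArg (fun φ : (C : Scheme.{u}) ⟶ S => φ.base a) hp
      exact this.trans ha⟩
    haveI : QuasiCompact p := by
      haveI : IsAffine (C : Scheme.{u}) := hC
      haveI : IsAffine (V₀ : Scheme.{u}) := hV₀
      haveI hq : QuasiCompact (p ≫ S.homOfLE hVV₀) :=
        (HasAffineProperty.iff_of_isAffine (P := @QuasiCompact)).mpr inferInstance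
      exact QuasiCompact.of_comp p (S.homOfLE hVV₀)
    refine ⟨V, hsV, ?_⟩
    rw [Category.comp_id]
    apply P_descent P g V.ι p
    rw [hp]
    have hP' : P (pullback.snd (pullback.snd g f) C.ι) := P.pullback_snd _ _ hP
    rw [← pullbackLeftPullbackSndIso_hom_snd g f C.ι] at hP'
    exact (P.cancel_left_of_respectsIso _ _).mp hP'
  choose V hsV hPV using key
  exact P_local P g (𝟙 S) V
    (eq_top_iff.mpr fun s _ => TopologicalSpace.Opens.mem_iSup.mpr ⟨s, hsV s⟩) hPV

end generic

/-! ### constant schemes -/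

theorem etale_const (T : Scheme.{u}) (I : Type u) : Etale (TwC.const T I).hom := by
  change Etale (Sigma.desc fun _ : I => 𝟙 T)
  exact IsZariskiLocalAtSource.sigmaDesc (P := @Etale) (fun _ => inferInstance)

theorem isClosed_opensRange_sec {U T : Scheme.{u}} (h : T ⟶ U) (I : Type u) (i : I) :
    IsClosed ((sec h I i).opensRange : Set ↥(pullback (TwC.const U I).hom h)) := by
  rw [← isOpen_compl_iff]
  have : ((sec h I i).opensRange : Set ↥(pullback (TwC.const U I).hom h))ᶜ =
      ⋃ n ∈ {n : I | n ≠ i},
        ((sec h I n).opensRange : Set ↥(pullback (TwC.const U I).hom h)) := by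
    ext y
    simp only [Set.mem_compl_iff, Set.mem_iUnion, Set.mem_ofPred_eq, exists_prop]
    constructor
    · intro hy
      have hy' : y ∈ (⨆ n, (sec h I n).opensRange) := by
        rw [iSup_opensRange_sec]; trivial
      obtain ⟨n, hn⟩ := TopologicalSpace.Opens.mem_iSup.mp hy'
      exact ⟨n, fun hnm => hy (hnm ▸ hn), hn⟩
    · rintro ⟨n, hnm, hn⟩ hy
      have hd : Disjoint (sec h I n).opensRange (sec h I i).opensRange :=
        disjoint_opensRange_sec h I hnm
      exact hd.le_bot ⟨hn, hy⟩
  rw [this]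
  exact isOpen_biUnion fun n _ => (sec h I n).opensRange.2

/-- The constant scheme is separated over its base. -/
theorem isSeparated_const (T : Scheme.{u}) (I : Type u) : IsSeparated (TwC.const T I).hom := by
  constructor
  apply IsZariskiLocalAtTarget.of_iSup_eq_top (P := @IsClosedImmersion)
    (fun i => (sec (TwC.const T I).hom I i).opensRange)
    (iSup_opensRange_sec (TwC.const T I).hom I)
  intro i
  have e1 : sec (TwC.const T I).hom I i ≫ pullback.snd (TwC.const T I).hom (TwC.const T I).hom =
      𝟙 _ := pullback.lift_snd _ _ _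
  have e2 : (Scheme.Hom.isoOpensRange (sec (TwC.const T I).hom I i)).hom ≫
      (sec (TwC.const T I).hom I i).opensRange.ι = sec (TwC.const T I).hom I i :=
    Scheme.Hom.isoOpensRange_hom_ι _
  have e3 : (sec (TwC.const T I).hom I i).opensRange.ι ≫
      pullback.snd (TwC.const T I).hom (TwC.const T I).hom =
      (Scheme.Hom.isoOpensRange (sec (TwC.const T I).hom I i)).inv := by
    rw [← cancel_epi (Scheme.Hom.isoOpensRange (sec (TwC.const T I).hom I i)).hom,
      Iso.hom_inv_id, ← Category.assoc, e2, e1]
  have e4 : (pullback.diagonal (TwC.const T I).hom ∣_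
        (sec (TwC.const T I).hom I i).opensRange) ≫
      (Scheme.Hom.isoOpensRange (sec (TwC.const T I).hom I i)).inv =
      (pullback.diagonal (TwC.const T I).hom ⁻¹ᵁ (sec (TwC.const T I).hom I i).opensRange).ι := by
    rw [← e3, ← Category.assoc, morphismRestrict_ι, Category.assoc, pullback.diagonal_snd,
      Category.comp_id]
  have hcl : IsClosedImmersion
      (pullback.diagonal (TwC.const T I).hom ⁻¹ᵁ (sec (TwC.const T I).hom I i).opensRange).ι :=
    IsClosedImmersion.of_isPreimmersion _ (by
      rw [Scheme.Opens.range_ι]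
      exact (isClosed_opensRange_sec (TwC.const T I).hom I i).preimage
        (pullback.diagonal (TwC.const T I).hom).continuous)
  rw [← e4] at hcl
  exact (MorphismProperty.cancel_right_of_respectsIso @IsClosedImmersion _ _).mp hcl

/-! ### quasi-isotrivial twisted constant schemes -/

theorem P_of_isTwConst (P : MorphismProperty Scheme.{u}) [IsZariskiLocalAtTarget P]
    [P.IsStableUnderBaseChange]
    [P.DescendsAlong (@Surjective ⊓ @Flat ⊓ @QuasiCompact : MorphismProperty Scheme.{u})]
    (hconst : ∀ (T : Scheme.{u}) (I : Type u), P (TwC.const T I).hom)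
    {S : Scheme.{u}} (X : Over S) (hX : TwC.IsTwConst TwC.Topology.etale X) : P X.hom := by
  apply etale_local P X.hom
  intro s
  obtain ⟨S', f, hf, hs, I, ⟨e⟩⟩ := hX s
  refine ⟨S', f, hf, hs, ?_⟩
  have hw : e.hom.left ≫ (TwC.const S' I).hom = pullback.snd X.hom f := Over.w e.hom
  haveI : IsIso e.hom.left := (Over.forget S').map_isIso e.hom
  rw [← hw]
  exact (P.cancel_left_of_respectsIso e.hom.left _).mpr (hconst S' I)

theorem isSeparated_of_isTwConst {S : Scheme.{u}} (X : Over S)
    (hX : TwC.IsTwConst TwC.Topology.etale X) : IsSeparated X.hom := by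
  haveI := Groth.Agent.S0081.result.{u}
  exact P_of_isTwConst @IsSeparated isSeparated_const X hX

theorem etale_of_isTwConst {S : Scheme.{u}} (X : Over S)
    (hX : TwC.IsTwConst TwC.Topology.etale X) : Etale X.hom :=
  P_of_isTwConst @Etale etale_const X hX

/-- Quasi-isotrivial twisted constant schemes are stable under base change. -/
theorem isTwConst_etale_bc {S Y' : Scheme.{u}} (X : Over S)
    (hX : TwC.IsTwConst TwC.Topology.etale X) (i₂ : Y' ⟶ S) :
    TwC.IsTwConst TwC.Topology.etale (Red.bc i₂ X) := by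
  intro y
  obtain ⟨S', f, hf, ⟨c, hc⟩, hI⟩ := hX (i₂.base y)
  haveI := hf
  obtain ⟨z, hz₁, -⟩ :=
    Scheme.Pullback.exists_preimage_pullback (f := i₂) (g := f) y c hc.symm
  refine ⟨pullback i₂ f, pullback.fst i₂ f, inferInstance, ⟨z, hz₁⟩, ?_⟩
  obtain ⟨J, ⟨e⟩⟩ := twConst_precomp X f (pullback.snd i₂ f) hI
  exact ⟨J, ⟨ActBC.bcCompIso (pullback.fst i₂ f) i₂ X pullback.condition ≪≫ e⟩⟩

/-- The structure morphism of a quasi-isotrivial twisted constant scheme lifts specializations. -/
theorem specializingMap_of_isTwConst {S : Scheme.{u}} (X : Over S)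
    (hX : TwC.IsTwConst TwC.Topology.etale X) : SpecializingMap X.hom.base := by
  intro x s hxs
  obtain ⟨S', f, hf, ⟨c, hc⟩, I, ⟨e⟩⟩ := hX s
  haveI := hf
  obtain ⟨c₀, hc₀c, hc₀⟩ := Flat.generalizingMap f
    (show X.hom.base x ⤳ f.base c by rw [hc]; exact hxs)
  obtain ⟨z₀, hz₀x, hz₀c⟩ :=
    Scheme.Pullback.exists_preimage_pullback (f := X.hom) (g := f) x c₀ hc₀.symm
  have h1 : e.hom.left ≫ e.inv.left = 𝟙 _ := by rw [← Over.comp_left, e.hom_inv_id]; rfl
  have h2 : e.inv.left ≫ e.hom.left = 𝟙 _ := by rw [← Over.comp_left, e.inv_hom_id]; rfl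
  have hw : e.hom.left ≫ (TwC.const S' I).hom = pullback.snd X.hom f := Over.w e.hom
  obtain ⟨i, t, ht0⟩ := (sigmaOpenCover (fun _ : I => S')).exists_eq (e.hom.left.base z₀)
  have ht : (Sigma.ι (fun _ : I => S') i).base t = e.hom.left.base z₀ := ht0
  have hι : Sigma.ι (fun _ : I => S') i ≫ (TwC.const S' I).hom = 𝟙 S' := by simp
  have desc_ι : ∀ a, (TwC.const S' I).hom.base ((Sigma.ι (fun _ : I => S') i).base a) = a :=
    fun a => pt_congr hι a
  have snd_eq : ∀ y, (pullback.snd X.hom f).base y =
      (TwC.const S' I).hom.base (e.hom.left.base y) := fun y => (pt_congr hw y).symm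
  have hi1 : ∀ b, e.hom.left.base (e.inv.left.base b) = b := fun b => pt_congr h2 b
  have hi2 : ∀ y, e.inv.left.base (e.hom.left.base y) = y := fun y => pt_congr h1 y
  have cond : ∀ y, X.hom.base ((pullback.fst X.hom f).base y) =
      f.base ((pullback.snd X.hom f).base y) := fun y => pt_congr pullback.condition y
  have ht' : t = c₀ := by
    have a1 : (TwC.const S' I).hom.base (e.hom.left.base z₀) = t := by
      rw [← ht]; exact desc_ι t
    rw [← a1, ← snd_eq]
    exact hz₀c
  subst ht'
  have s1 : (Sigma.ι (fun _ : I => S') i).base t ⤳ (Sigma.ι (fun _ : I => S') i).base c :=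
    hc₀c.map (Sigma.ι (fun _ : I => S') i).continuous
  have s2 : z₀ ⤳ e.inv.left.base ((Sigma.ι (fun _ : I => S') i).base c) := by
    have := s1.map e.inv.left.continuous
    rw [ht, hi2] at this
    exact this
  have s3 : x ⤳ (pullback.fst X.hom f).base
      (e.inv.left.base ((Sigma.ι (fun _ : I => S') i).base c)) := by
    have := s2.map (pullback.fst X.hom f).continuous
    rw [hz₀x] at this
    exact this
  refine ⟨_, s3, ?_⟩
  rw [cond, snd_eq, hi1, desc_ι]
  exact hc

/-- Existence part of the valuative criterion for quasi-isotrivial twisted constant schemes. -/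
theorem existence_of_isTwConst {S : Scheme.{u}} (X : Over S)
    (hX : TwC.IsTwConst TwC.Topology.etale X) : ValuativeCriterion.Existence X.hom := by
  apply ValuativeCriterion.Existence.of_specializingMap
  intro X' Y' i₁ i₂ f' h
  have hbc : SpecializingMap (pullback.snd X.hom i₂).base :=
    specializingMap_of_isTwConst (Red.bc i₂ X) (isTwConst_etale_bc X hX i₂)
  have e : h.flip.isoPullback.hom ≫ pullback.snd X.hom i₂ = f' := h.flip.isoPullback_hom_snd
  change SpecializingMap f'.base
  rw [← e]
  change SpecializingMap ((pullback.snd X.hom i₂).base ∘ h.flip.isoPullback.hom.base)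
  exact SpecializingMap.comp (f := h.flip.isoPullback.hom.base)
    (h.flip.isoPullback.hom.homeomorph.isClosedMap.specializingMap) hbc

end Groth.Agent.H1.TwConst
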